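import Mathlib
import Cfsg.Agent.Lib.Helper26.Realize2
import Cfsg.Agent.Lib.Helper27.AbInvNeg

/-!
# Project MSS (S5287): base definitions

* `realFS ι hinj`: the fusion system over `S` realized by an injective `ι : S →* G`.
* `HasBadModel p X`: `X` is isomorphic to a Sylow `p`-subgroup `T` of a finite group `G` in which
  a square of `T` is `G`-conjugate to a non-square of `T`.
* `GLData q k`: the concrete data inside `GL₂(q)`.
-/

set_option autoImplicit false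

namespace Cfsg.Agent.Lib.Helper27.MSS

open Cfsg Cfsg.FusionSystem Cfsg.Agent.Lib.Helper26

section RealFS

variable {Ω : Type*} [Group Ω] {S : Subgroup Ω} {G : Type*} [Group G]

/-- The fusion system over `S` whose maps are induced, through the injective map `ι`, by the
conjugations of `G`. -/
def realFS (ι : S →* G) (hinj : Function.Injective ι) : FusionSystem S where
  Hom P := {φ | P ≤ S ∧ (∀ x : P, φ x ∈ S) ∧
    ∃ g : G, ∀ (x : P) (hx : (x : Ω) ∈ S) (hφ : φ x ∈ S), ι ⟨φ x, hφ⟩ = g * ι ⟨x, hx⟩ * g⁻¹}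
  le_of_mem h := ⟨h.1, h.2.1⟩
  injective_of_mem := by
    rintro P φ ⟨hPS, hφS, g, hg⟩ x y hxy
    have h1 := hg x (hPS x.2) (hφS x)
    have h2 := hg y (hPS y.2) (hφS y)
    have h3 : ι ⟨φ x, hφS x⟩ = ι ⟨φ y, hφS y⟩ := by
      congr 1
      exact Subtype.ext hxy
    rw [h1, h2] at h3
    have h4 : ι ⟨x, hPS x.2⟩ = ι ⟨y, hPS y.2⟩ := mul_left_cancel (mul_right_cancel h3)
    have h5 := hinj h4
    have h6 : (x : Ω) = (y : Ω) := congrArg (fun z : S => (z : Ω)) h5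
    exact Subtype.ext h6
  conj_mem := by
    intro P g hP hg
    refine ⟨hP, fun x => ?_, ι ⟨g, hg⟩, fun x hx hφ => ?_⟩
    · exact Subgroup.mul_mem _ (Subgroup.mul_mem _ hg (hP x.2)) (Subgroup.inv_mem _ hg)
    · rw [← map_inv, ← map_mul, ← map_mul]
      rfl
  comp_mem := by
    rintro P Q φ ψ ⟨hP, hφ, g₁, hg₁⟩ ⟨hQS, hψ, g₂, hg₂⟩ h
    refine ⟨hP, fun x => hψ _, g₂ * g₁, fun x hx hφx => ?_⟩
    have h1 := hg₂ ⟨φ x, h x⟩ (hQS (h x)) hφx
    have h2 := hg₁ x hx (hQS (h x))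
    show ι ⟨ψ ⟨φ x, h x⟩, hφx⟩ = _
    rw [h1, h2]
    group
  inv_mem := by
    rintro P φ ⟨hPS, hφS, g, hg⟩
    have hinjφ : Function.Injective φ := by
      intro x y hxy
      have h1 := hg x (hPS x.2) (hφS x)
      have h2 := hg y (hPS y.2) (hφS y)
      have h3 : ι ⟨φ x, hφS x⟩ = ι ⟨φ y, hφS y⟩ := by
        congr 1
        exact Subtype.ext hxy
      rw [h1, h2] at h3
      have h4 : ι ⟨x, hPS x.2⟩ = ι ⟨y, hPS y.2⟩ := mul_left_cancel (mul_right_cancel h3)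
      have h5 := hinj h4
      have h6 : (x : Ω) = (y : Ω) := congrArg (fun z : S => (z : Ω)) h5
      exact Subtype.ext h6
    refine ⟨P.subtype.comp (MonoidHom.ofInjective hinjφ).symm.toMonoidHom,
      ⟨?_, ?_, g⁻¹, ?_⟩, ?_⟩
    · rintro _ ⟨x, rfl⟩
      exact hφS x
    · intro y
      exact hPS (Subtype.property _)
    · rintro ⟨_, x, rfl⟩ hx hψ
      have h1 : (MonoidHom.ofInjective hinjφ).symm ⟨φ x, x, rfl⟩ = x := by
        rw [MulEquiv.symm_apply_eq]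
        rfl
      have h2 := hg x (hPS x.2) hx
      have h3 : ι ⟨(P.subtype.comp (MonoidHom.ofInjective hinjφ).symm.toMonoidHom)
          ⟨φ x, x, rfl⟩, hψ⟩ = ι ⟨x, hPS x.2⟩ := by
        congr 1
        apply Subtype.ext
        show (((MonoidHom.ofInjective hinjφ).symm ⟨φ x, x, rfl⟩ : P) : Ω) = x
        rw [h1]
      rw [h3]
      show ι ⟨x, hPS x.2⟩ = g⁻¹ * ι ⟨φ x, hx⟩ * g⁻¹⁻¹
      rw [h2]
      group
    · intro x
      have h1 : (MonoidHom.ofInjective hinjφ).symm ⟨φ x, x, rfl⟩ = x := by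
        rw [MulEquiv.symm_apply_eq]
        rfl
      show (((MonoidHom.ofInjective hinjφ).symm ⟨φ x, x, rfl⟩ : P) : Ω) = x
      rw [h1]

theorem realFS_mem_iff {ι : S →* G} (hinj : Function.Injective ι)
    {P : Subgroup Ω} {φ : P →* Ω} :
    φ ∈ (realFS ι hinj).Hom P ↔ P ≤ S ∧ (∀ x : P, φ x ∈ S) ∧
      ∃ g : G, ∀ (x : P) (hx : (x : Ω) ∈ S) (hφ : φ x ∈ S),
        ι ⟨φ x, hφ⟩ = g * ι ⟨x, hx⟩ * g⁻¹ := Iff.rfl

theorem realFS_realized {ι : S →* G} (hinj : Function.Injective ι) :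
    (realFS ι hinj).IsRealizedBy ι := by
  refine ⟨hinj, fun P hP φ hφ => ?_⟩
  rw [realFS_mem_iff]
  constructor
  · rintro ⟨-, -, g, hg⟩
    exact ⟨g, fun x => hg x _ _⟩
  · rintro ⟨g, hg⟩
    exact ⟨hP, hφ, g, fun x hx hφx => hg x⟩

theorem realFS_saturated [Finite G] {p : ℕ} [Fact p.Prime] {ι : S →* G}
    (hinj : Function.Injective ι) (T : Sylow p G) (hT : (T : Subgroup G) = ι.range) :
    (realFS ι hinj).IsSaturated p :=
  saturated_of_realized _ (realFS_realized hinj) T hT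

end RealFS

/-- `X` is isomorphic to a Sylow `p`-subgroup `T` of a finite group `G` in which some square `a`
of `T` is `G`-conjugate to a non-square `b` of `T`. -/
def HasBadModel (p : ℕ) (X : Type*) [Group X] : Prop :=
  ∃ (G : Type) (_ : Group G) (_ : Finite G) (T : Sylow p G) (a b g : G),
    Nonempty (X ≃* ↥(T : Subgroup G)) ∧ a ∈ (T : Subgroup G) ∧ b ∈ (T : Subgroup G) ∧
      g * a * g⁻¹ = b ∧ (∃ y ∈ (T : Subgroup G), y ^ 2 = a) ∧ ∀ y ∈ (T : Subgroup G), y ^ 2 ≠ b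

theorem HasBadModel.of_equiv {p : ℕ} {X Y : Type*} [Group X] [Group Y] (e : X ≃* Y)
    (h : HasBadModel p Y) : HasBadModel p X := by
  obtain ⟨G, i1, i2, T, a, b, g, ⟨f⟩, h1⟩ := h
  exact ⟨G, i1, i2, T, a, b, g, ⟨e.trans f⟩, h1⟩

/-- The data inside `GL₂(q)`: a quasi-dihedral pair `r, s` with `r ^ 2 ^ (k - 1) = -1`, and an
element `g` of determinant one conjugating `r ^ 2 ^ (k - 2)` to `r ^ 2 ^ (k - 2) * (r * s)`. -/
structure GLData (q k : ℕ) [Fact q.Prime] where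
  r : GL (Fin 2) (ZMod q)
  s : GL (Fin 2) (ZMod q)
  g : GL (Fin 2) (ZMod q)
  hr : orderOf r = 2 ^ k
  hs : s ^ 2 = 1
  hrs : s * r * s⁻¹ = r ^ (2 ^ (k - 1) - 1)
  hz : r ^ 2 ^ (k - 1) = -1
  hdet_s : Matrix.GeneralLinearGroup.det s = -1
  hdet_r : Matrix.GeneralLinearGroup.det r = -1
  hdet_g : Matrix.GeneralLinearGroup.det g = 1
  hg : g * r ^ 2 ^ (k - 2) * g⁻¹ = r ^ 2 ^ (k - 2) * (r * s)

end Cfsg.Agent.Lib.Helper27.MSS
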